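import Cfsg.Agent.E7P.Nt.Nt
import Cfsg.Agent.E7P.Lie.Alc
import Cfsg.Agent.E7P.Bl.Main

/-!
# S5932, E81: Kac coordinates in the simply connected group (helper30)

* `E81.alcZ` : the alcove of the affine Weyl group (proof of `H944.Kac.exists_alcove`, for integral vectors);
* `E81.alc` : an element `y` of the torus with `y ^ (2 M) = 1`, `y ^ M` central, is conjugate under the Weyl group to
  `lam (Bl.co s) ζ` with `∑ mk i * s i ≤ M`.
-/

set_option autoImplicit false
set_option maxRecDepth 100000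
set_option maxHeartbeats 200000

namespace Cfsg.Agent.E7P.E81

section
open Cfsg.Agent.ChevalleyStructure.CoxeterGeom Cfsg.Agent.Tits.Roots
  Cfsg.Agent.Nodes.RGDChev
open Cfsg.Lie Cfsg.Agent.ChevalleyStructure Cfsg.Agent.ChevalleyStructure.Elts
  Cfsg.Agent.ChevalleyStructure.RootVec Cfsg.Agent.ChevalleyStructure.RootVecTab
  Cfsg.Agent.ChevalleyStructure.NPerm Cfsg.Agent.ChevalleyStructure.CoxeterGeomTypes
open Cfsg.Agent.H944.RootVals Cfsg.Agent.H944.Kac

/-- **the alcove of the affine Weyl group** -/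
theorem alcZ {D : ChevalleyDatum} {l : ℕ} {M : CoxeterMatrix (Fin l)} (hp : IsType D l M) {N : ℕ} (hN : 0 < N)
    (θ a : Fin l → ℤ) (κ : ℤ) (hκ : 0 < κ)
    (hθ : ∀ i, ∑ s : Fin D.nroots, (∑ k, vec D l s k * a k) * vec D l s i = κ * θ i)
    (hθ2 : ∑ i, θ i * a i = 2) (S : Finset (Fin D.nroots))
    (hS : ∀ j, 0 < ∑ i, cartanOf D l j i * ∑ s ∈ S, vec D l s i)
    (Q : (Fin l → ℤ) → Prop) (hP : ∀ v j, Q v → Q (srefl D l j v)) (hT : ∀ v, Q v → Q fun i => v i - N * a i)
    (hQ0 : ∃ y, Q y) : ∃ y : Fin l → ℕ, Q (fun i => (y i : ℤ)) ∧ ∑ i, θ i * (y i : ℤ) ≤ N := by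
  classical
  -- first minimum
  have h1 : ∃ m : ℕ, ∃ y, Q y ∧ sq D l y = m := by
    obtain ⟨y, hy⟩ := hQ0
    exact ⟨(sq D l y).toNat, y, hy, (Int.toNat_of_nonneg (sq_nonneg' y)).symm⟩
  let m := Nat.find h1
  have hm : ∃ y, Q y ∧ sq D l y = m := Nat.find_spec h1
  have hmin : ∀ y, Q y → (m : ℤ) ≤ sq D l y := by
    intro y hy
    have h2 : m ≤ (sq D l y).toNat := Nat.find_min' h1 ⟨y, hy, (Int.toNat_of_nonneg (sq_nonneg' y)).symm⟩
    have h3 := Int.toNat_of_nonneg (sq_nonneg' (D := D) y)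
    omega
  let L : (Fin l → ℤ) → ℤ := fun y => ∑ s ∈ S, rv D l y s
  have hL : ∀ y, L y ≤ sq D l y := by
    intro y
    calc L y ≤ ∑ s ∈ S, rv D l y s ^ 2 := Finset.sum_le_sum fun s _ => Int.le_self_sq _
      _ ≤ ∑ s : Fin D.nroots, rv D l y s ^ 2 :=
        Finset.sum_le_sum_of_subset_of_nonneg (Finset.subset_univ S) fun s _ _ => sq_nonneg _
  have h2 : ∃ n : ℕ, ∃ y, Q y ∧ sq D l y = m ∧ (m : ℤ) - L y = n := by
    obtain ⟨y, hy, hy2⟩ := hm
    have := hL y
    refine ⟨((m : ℤ) - L y).toNat, y, hy, hy2, (Int.toNat_of_nonneg ?_).symm⟩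
    omega
  let n := Nat.find h2
  obtain ⟨y, hyQ, hym, hyn⟩ : ∃ y, Q y ∧ sq D l y = m ∧ (m : ℤ) - L y = n := Nat.find_spec h2
  have hmin2 : ∀ y', Q y' → sq D l y' = m → L y' ≤ L y := by
    intro y' hy' hy2
    have h3 := hL y'
    have h4 : n ≤ ((m : ℤ) - L y').toNat :=
      Nat.find_min' h2 ⟨y', hy', hy2, (Int.toNat_of_nonneg (by omega)).symm⟩
    omega
  -- dominance
  have hdom : ∀ j, 0 ≤ y j := by
    intro j
    have hQ' : Q (srefl D l j y) := hP _ j hyQ
    have hsq' : sq D l (srefl D l j y) = m := by rw [sq_eq, ms_srefl hp, ← sq_eq, hym]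
    have h3 := hmin2 _ hQ' hsq'
    have h4 : L (srefl D l j y) = L y - (∑ i, cartanOf D l j i * ∑ s ∈ S, vec D l s i) * y j := by
      show ∑ s ∈ S, rv D l (srefl D l j y) s = ∑ s ∈ S, rv D l y s - _
      have h5 : ∀ s ∈ S, rv D l (srefl D l j y) s = rv D l y s - (∑ i, cartanOf D l j i * vec D l s i) * y j := by
        intro s _
        unfold rv srefl
        simp only [Int.cast_id, mul_sub]
        rw [Finset.sum_sub_distrib, Finset.sum_mul]
        congr 1
        refine Finset.sum_congr rfl fun i _ => ?_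
        ring
      rw [Finset.sum_congr rfl h5, Finset.sum_sub_distrib, ← Finset.sum_mul]
      congr 2
      rw [Finset.sum_comm]
      refine Finset.sum_congr rfl fun i _ => ?_
      rw [Finset.mul_sum]
    rw [h4] at h3
    have h6 := hS j
    by_contra hneg
    push Not at hneg
    nlinarith
  -- the highest root
  have hhigh : ∑ i, θ i * y i ≤ N := by
    let y' : Fin l → ℤ := fun i => y i - N * a i
    have hQ' : Q y' := hT _ hyQ
    have h3 := hmin _ hQ'
    have h4 : sq D l y' = sq D l y - 2 * N * κ * (∑ i, θ i * y i) + N ^ 2 * κ * 2 := by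
      have h5 : ∀ s : Fin D.nroots, rv D l y' s ^ 2 = rv D l y s ^ 2 - 2 * N * (rv D l a s * rv D l y s) +
          N ^ 2 * (rv D l a s * rv D l a s) := by
        intro s
        have h6 : rv D l y' s = rv D l y s - N * rv D l a s := by
          unfold rv
          rw [Finset.mul_sum, ← Finset.sum_sub_distrib]
          refine Finset.sum_congr rfl fun i _ => ?_
          show _ * (y i - N * a i) = _
          ring
        rw [h6]
        ring
      have h7 : ∀ z : Fin l → ℤ, ∑ s : Fin D.nroots, rv D l a s * rv D l z s = κ * ∑ i, θ i * z i := by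
        intro z
        have h8 : ∀ s : Fin D.nroots, rv D l a s * rv D l z s =
            ∑ i, ((∑ k, vec D l s k * a k) * vec D l s i) * z i := by
          intro s
          unfold rv
          simp only [Int.cast_id]
          rw [Finset.mul_sum]
          refine Finset.sum_congr rfl fun i _ => ?_
          ring
        simp only [h8]
        rw [Finset.sum_comm, Finset.mul_sum]
        refine Finset.sum_congr rfl fun i _ => ?_
        rw [← Finset.sum_mul, hθ]
        ring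
      unfold H944.Kac.sq
      simp only [h5]
      rw [Finset.sum_add_distrib, Finset.sum_sub_distrib, ← Finset.mul_sum, ← Finset.mul_sum, h7, h7, hθ2]
      ring
    rw [h4, hym] at h3
    have hN' : (0 : ℤ) < N := by exact_mod_cast hN
    have h9 : (0 : ℤ) < N * κ := mul_pos hN' hκ
    by_contra hneg
    push Not at hneg
    nlinarith
  refine ⟨fun i => (y i).toNat, ?_, ?_⟩
  · convert hyQ using 2 with i
    exact Int.toNat_of_nonneg (hdom i)
  · convert hhigh using 2 with i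
    congr 1
    exact Int.toNat_of_nonneg (hdom _)
end

open Cfsg Cfsg.Lie Matrix Module
open Cfsg.Agent.R2.T1 Cfsg.Agent.E7P.Kf

universe u

variable {K : Type u} [Field K]

theorem iC_symm : ∀ i j : Fin 7, Kf.iC i j = Kf.iC j i := by decide +kernel

theorem co_eq (s : Fin 7 → ℤ) : Bl.co s = nt_cw s := by
  funext i
  exact Finset.sum_congr rfl fun j _ => by rw [iC_symm, mul_comm]

theorem cw_top : nt_cw ![1, 0, 0, 0, 0, 0, 0] = (2 : ℤ) • ![2, 2, 3, 4, 3, 2, 1] := by decide +kernel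

/-- **Kac coordinates** -/
theorem alc [Infinite K] {M : ℕ} (hM : 0 < M) {ζ : Kˣ} (hζ : IsPrimitiveRoot ζ (2 * M)) {t : Fin chevE7.rank → Kˣ}
    (h1 : Phi K t ^ (2 * M) = 1) (h2 : Phi K t ^ M ∈ Subgroup.center (Gh K)) :
    ∃ (w : List (Fin 7)) (s : Fin 7 → ℕ), ∑ i, Lb.mk i * s i ≤ M ∧
      Phi K t = nL K w * Phi K (lam (Bl.co fun i => (s i : ℤ)) ζ) * (nL K w)⁻¹ := by
  have : NeZero (2 * M) := ⟨by omega⟩
  obtain ⟨y, ⟨w, hw⟩, h⟩ := alcZ H944.E7Two.e7T hM _ _ 36 (by norm_num) H944.E7Two.theta7 (by decide) _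
    H944.E7Two.pos7 (fun s => ∃ w, Phi K t = nL K w * Phi K (lam (nt_cw s) ζ) * (nL K w)⁻¹)
    (fun s j ⟨w, hw⟩ => ⟨w ++ [j], by
      have e : H944.Kac.srefl chevE7 7 j s = s - s j • rc (chevE7.simple j) := by
        funext i
        show s i - chevE7.cartan j (chevE7.simple i) * s j = s i - s j * chevE7.cartan i (chevE7.simple j)
        rw [Lb.car_tab, Lb.car_tab, Lb.CM_symm, mul_comm]
      have e2 := nt_conj_lam (K := K) [j] (m := nt_cw (H944.Kac.srefl chevE7 7 j s)) (m' := nt_cw s) (by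
        rw [nt_lE_cw, nt_lE_cw, e, ← sr_cv, map_smul, wL_cons, wL_nil, sr_sr]) ζ
      rw [hw, nL_append, ← e2]
      group⟩)
    (fun s ⟨w, hw⟩ => ⟨w, by
      have e : (fun i => s i - (M : ℤ) * (![1, 0, 0, 0, 0, 0, 0] : Fin 7 → ℤ) i) =
          s + (-(M : ℤ)) • ![1, 0, 0, 0, 0, 0, 0] := by
        funext i
        rw [Pi.add_apply, Pi.smul_apply, smul_eq_mul]
        ring
      have e1 : ∀ m : Fin 7 → ℤ, lam m (1 : Kˣ) = 1 := fun m => lam_one m
      rw [e, nt_cw_add, nt_cw_smul, cw_top, smul_smul, nt_lam_add, nt_lam_smul,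
        show -(M : ℤ) * 2 = -((2 * M : ℕ) : ℤ) by push_cast; ring, _root_.zpow_neg, zpow_natCast, hζ.pow_eq_one, inv_one,
        e1, mul_one, hw]⟩)
    (by
      rw [← map_pow] at h1 h2
      have h3 : t ^ (2 * M) = 1 := isPhi.inj (by rw [h1, map_one])
      have h4 : ∀ i : Fin 7, ∃ n : ℤ, ζ ^ n = t i := fun i => by
        have h5 : t i ^ (2 * M) = 1 := congrFun h3 i
        obtain ⟨n, -, hn⟩ := (IsPrimitiveRoot.coe_units_iff.2 hζ).eq_pow_of_pow_eq_one (ξ := (t i : K))
          (by rw [← Units.val_pow_eq_pow_val, h5, Units.val_one])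
        exact ⟨n, Units.ext (by rw [zpow_natCast, Units.val_pow_eq_pow_val, hn])⟩
      choose l hl using h4
      have h5 : t = lam l ζ := funext fun i => (hl i).symm
      have h6 : ∀ i : Fin 7, (2 : ℤ) ∣ nt_lb l i := fun i => by
        have h7 := (isPhi.mem_iff _).1 h2 _ (simple_lt7 i i.2)
        have h8 : ch (rc (chevE7.simple i)) (t ^ M) = 1 := h7
        have h9 : ∑ j, rc (chevE7.simple i) j * l j = nt_lb l i := by
          rw [nt_lb, Finset.sum_apply]
          refine Finset.sum_congr rfl fun j _ => ?_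
          show chevE7.cartan j (chevE7.simple i) * _ = l j * chevE7.cartan i (chevE7.simple j)
          rw [Lb.car_tab, Lb.car_tab, Lb.CM_symm, mul_comm]
        rw [Bl.ch_pow, h5, ch_lam, h9, ← zpow_natCast, ← _root_.zpow_mul, hζ.zpow_eq_one_iff_dvd] at h8
        push_cast at h8
        exact Int.dvd_of_mul_dvd_mul_right (by omega) h8
      choose s hs using h6
      refine ⟨s, [], ?_⟩
      have h7 : (2 : ℤ) • nt_cw s = (2 : ℤ) • l := by
        rw [← nt_cw_smul, ← nt_cw_lb l]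
        exact congrArg nt_cw (funext fun i => (hs i).symm)
      rw [smul_right_injective _ two_ne_zero h7, nL_nil, one_mul, inv_one, mul_one, ← h5])
  refine ⟨w, y, ?_, by rw [co_eq]; exact hw⟩
  simp only [Fin.sum_univ_seven, Lb.mk, Matrix.cons_val] at h ⊢
  omega

/-- the same for a conjugate -/
theorem alc' [Infinite K] {M : ℕ} (hM : 0 < M) {ζ : Kˣ} (hζ : IsPrimitiveRoot ζ (2 * M)) {y g : Gh K}
    {t : Fin chevE7.rank → Kˣ} (hy : y = g * Phi K t * g⁻¹) (h1 : y ^ (2 * M) = 1) (h2 : y ^ M ∈ Subgroup.center (Gh K)) :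
    ∃ (w : List (Fin 7)) (s : Fin 7 → ℕ), ∑ i, Lb.mk i * s i ≤ M ∧
      y = g * nL K w * Phi K (lam (Bl.co fun i => (s i : ℤ)) ζ) * (g * nL K w)⁻¹ := by
  have e : Phi K t = g⁻¹ * y * g⁻¹⁻¹ := by rw [hy]; group
  obtain ⟨w, s, h3, h4⟩ := alc hM hζ (t := t) (by rw [e, conj_pow, h1]; group) (by
    rw [e, conj_pow]
    exact (Subgroup.normal_of_characteristic _).conj_mem _ h2 _)
  exact ⟨w, s, h3, by rw [hy, h4]; group⟩

end Cfsg.Agent.E7P.E81
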