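import Cfsg.Agent.E7P.E81.Alc
import Cfsg.Agent.E7P.E81.Crt
import Cfsg.Agent.E7P.E27.Com
import Cfsg.Agent.E7P.Base.EqU

/-!
# S5932, task E81: the field with 81 elements (helper30)

`Sit.e81` : `TorW` for `p = 3`, `a = 4`.
-/

set_option autoImplicit false
set_option maxRecDepth 100000
set_option maxHeartbeats 200000

namespace Cfsg.Agent.E7P

open Cfsg Cfsg.Lie Matrix Module
open Cfsg.Agent.ChevalleyStructure.RootVec (rt)
open Cfsg.Agent.H943.E7V.Block (D1 rho)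
open Cfsg.Agent.R2.T1 Cfsg.Agent.E7P.Kf
open Cfsg.Agent.H943.SL2Rel Cfsg.Agent.H943.SL2Mod
open Cfsg.Agent.R2.H28.SL2
open Cfsg.Agent.H179.SLC (isSS_h)

universe u v

namespace E81

/-- the coordinates of a weight -/
def rh (r : ℕ) : List ℕ × ℕ :=
  ((List.range 7).map fun j => (rt chevE8 r j).toNat, 32 * (27 - ((List.range 7).map fun j => (rt chevE8 r j).toNat).sum))

theorem WL_rh : (WL.map fun w => rh w.1) = RH := by decide +kernel

theorem chk_rh : ∀ r < 240, rt chevE8 r 7 = 1 → ∀ j < 7, rt chevE8 r j = ((rh r).1.getD j 0 : ℕ) := by decide +kernel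

theorem RH_fact : ∀ x ∈ RH, x.1.length = 7 ∧ x.2 + 32 * (x.1.getD 0 0 + x.1.getD 1 0 + x.1.getD 2 0 + x.1.getD 3 0 +
    x.1.getD 4 0 + x.1.getD 5 0 + x.1.getD 6 0) = 864 := by decide +kernel

theorem sum_rh (φ : List ℕ × ℕ → ℕ) : ∑ μ : D1, φ (rh (nn μ)) = (RH.map φ).sum := by
  rw [sum_D1 fun r => φ (rh r), ← WL_rh, List.map_map]
  rfl

theorem rh_mem (μ : D1) : rh (nn μ) ∈ RH := by
  obtain ⟨w, hw, h1⟩ := List.mem_map.1 ((WL_mem _ (nn_lt μ)).1 (rt_nn μ))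
  rw [← WL_rh, ← h1]
  exact List.mem_map.2 ⟨w, hw, rfl⟩

theorem wc_dp (μ : D1) (m : Fin 7 → ℤ) : ∑ i, wc μ i * Bl.co m i =
    2 * (((rh (nn μ)).1.getD 0 0 : ℕ) * m 0 + ((rh (nn μ)).1.getD 1 0 : ℕ) * m 1 + ((rh (nn μ)).1.getD 2 0 : ℕ) * m 2 +
      ((rh (nn μ)).1.getD 3 0 : ℕ) * m 3 + ((rh (nn μ)).1.getD 4 0 : ℕ) * m 4 + ((rh (nn μ)).1.getD 5 0 : ℕ) * m 5 +
      ((rh (nn μ)).1.getD 6 0 : ℕ) * m 6) - (2 * m 0 + 3 * m 1 + 4 * m 2 + 6 * m 3 + 5 * m 4 + 4 * m 5 + 3 * m 6) := by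
  have h1 : ∀ j : Fin 7, Bl.ra μ j = ((rh (nn μ)).1.getD j 0 : ℕ) := fun j => chk_rh _ (nn_lt μ) (rt_nn μ) j j.2
  rw [Bl.wc_co, Fin.sum_univ_seven, Fin.sum_univ_seven, h1, h1, h1, h1, h1, h1, h1]
  rfl

/-- the exponents -/
theorem ee_eq (μ : D1) (c : ℕ) : ((ee c (rh (nn μ)).1 : ℕ) : ℤ) = ∑ i, wc μ i * Bl.co (fun j => (dg c j : ℤ)) i +
    80 * (dg c 0 + dg c 1 + dg c 2 + dg c 3 + dg c 4 + dg c 5 + dg c 6 : ℕ) := by
  rw [wc_dp, ee, dp7 (RH_fact _ (rh_mem μ)).1, dp_cc]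
  simp only [Fin.coe_ofNat_eq_mod, Nat.reduceMod]
  push_cast
  ring

/-- the values of a cocharacter -/
theorem ff_eq (μ : D1) (k : ℕ) : ∑ i, wc μ i * Bl.co (fun j => (dg k j : ℤ) - 32) i = 2 * ((ff k (rh (nn μ)) : ℕ) : ℤ) - 864 -
    (2 * dg k 0 + 3 * dg k 1 + 4 * dg k 2 + 6 * dg k 3 + 5 * dg k 4 + 4 * dg k 5 + 3 * dg k 6 : ℕ) := by
  have h1 := congrArg (Nat.cast : ℕ → ℤ) (RH_fact _ (rh_mem μ)).2
  rw [wc_dp, ff, dp7 (RH_fact _ (rh_mem μ)).1]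
  simp only [Fin.coe_ofNat_eq_mod, Nat.reduceMod]
  push_cast at h1 ⊢
  linear_combination (-2) * h1

theorem nz_ne {k : ℕ} (h : nz k = true) : Bl.co (fun j => (dg k j : ℤ) - 32) ≠ 0 := by
  refine Bl.co_ne fun h0 => ?_
  obtain ⟨j, hj, h1⟩ := List.any_eq_true.1 h
  have h2 : (dg k j : ℤ) - 32 = 0 := congrFun h0 ⟨j, List.mem_range.1 hj⟩
  rw [Bool.not_eq_true', ← Bool.not_eq_true, Nat.beq_eq] at h1
  omega

theorem sum_fib {α : Type*} (s : Finset α) {f : α → ℕ} {N : ℕ} (hf : ∀ x, f x < N) (T : ℕ → ℕ) :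
    ∑ x ∈ s, T (f x) = ∑ θ ∈ Finset.range N, (s.filter fun x => f x = θ).card * T θ := by
  rw [← Finset.sum_fiberwise_of_maps_to (t := Finset.range N) (g := f) fun x _ => Finset.mem_range.2 (hf x)]
  refine Finset.sum_congr rfl fun θ _ => ?_
  rw [Finset.sum_congr rfl (g := fun _ => T θ) fun x hx => by rw [(Finset.mem_filter.1 hx).2], Finset.sum_const, smul_eq_mul]

section
variable {k : Type*} [Field k] [DecidableEq k] [CharP k 3]

theorem Bf_eq {b : ℕ} (hb : b < 81) : Bf k b = (Finset.range (b + 1)).filter fun m => dgb b m = true := by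
  have : Fact (Nat.Prime 3) := ⟨Nat.prime_three⟩
  refine Finset.filter_congr fun m hm => ?_
  have h1 := Finset.mem_range.1 hm
  rw [choose_ne_iff 3]
  simp only [dgb, Bool.and_eq_true, Nat.ble_eq]
  refine ⟨fun h => ⟨⟨⟨by simpa using h 0, by simpa using h 1⟩, by simpa using h 2⟩, by simpa using h 3⟩, fun h i => ?_⟩
  by_cases h4 : 4 ≤ i
  · rw [Nat.div_eq_of_lt (lt_of_lt_of_le (show m < 3 ^ 4 by omega) (Nat.pow_le_pow_right (by omega) h4)), Nat.zero_mod]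
    exact Nat.zero_le _
  · have h5 : i < 4 := by omega
    interval_cases i
    · simpa using h.1.1.1
    · simpa using h.1.1.2
    · simpa using h.1.2
    · simpa using h.2

theorem ys_eq (T : ℕ → ℕ) {b : ℕ} (hb : b < 81) : ys T b = ∑ m ∈ Bf k b, T (E27.wx 80 b m) := by
  rw [Bf_eq hb, ys, wl, List.map_map, ← List.sum_toFinset _ (List.nodup_range.filter _), List.toFinset_filter,
    List.toFinset_range]
  rfl

theorem mem_wl {b m : ℕ} (hb : b < 81) (hm : m ∈ Bf k b) : E27.wx 80 b m ∈ wl b := by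
  rw [Bf_eq hb, Finset.mem_filter, Finset.mem_range] at hm
  exact List.mem_map.2 ⟨m, List.mem_filter.2 ⟨List.mem_range.2 hm.1, hm.2⟩, rfl⟩

end

theorem dg_zero {x : ℕ} (h : x < 64) (y : ℕ) : dg (x + 64 * y) 0 = x := by
  unfold dg
  omega

theorem dg_succ {x : ℕ} (h : x < 64) (y j : ℕ) : dg (x + 64 * y) (j + 1) = dg y j := by
  rw [dg, dg, pow_succ', ← Nat.div_div_eq_div_mul, show (x + 64 * y) / 64 = y by omega]

theorem exists_code (s : Fin 7 → ℕ) (h : s 0 + s 1 + s 2 + s 3 + s 4 + s 5 + s 6 < 64) :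
    ∃ c < 64 ^ 7, ∀ j : Fin 7, dg c j = s j := by
  have h0 : s 0 < 64 := by omega
  have h1 : s 1 < 64 := by omega
  have h2 : s 2 < 64 := by omega
  have h3 : s 3 < 64 := by omega
  have h4 : s 4 < 64 := by omega
  have h5 : s 5 < 64 := by omega
  have h6 : s 6 < 64 := by omega
  refine ⟨s 0 + 64 * (s 1 + 64 * (s 2 + 64 * (s 3 + 64 * (s 4 + 64 * (s 5 + 64 * (s 6 + 64 * 0)))))), by omega, fun j => ?_⟩
  fin_cases j
  · exact dg_zero h0 _
  · exact (dg_succ h0 _ 0).trans (dg_zero h1 _)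
  · exact (dg_succ h0 _ 1).trans ((dg_succ h1 _ 0).trans (dg_zero h2 _))
  · exact (dg_succ h0 _ 2).trans ((dg_succ h1 _ 1).trans ((dg_succ h2 _ 0).trans (dg_zero h3 _)))
  · exact (dg_succ h0 _ 3).trans ((dg_succ h1 _ 2).trans ((dg_succ h2 _ 1).trans ((dg_succ h3 _ 0).trans (dg_zero h4 _))))
  · exact (dg_succ h0 _ 4).trans ((dg_succ h1 _ 3).trans ((dg_succ h2 _ 2).trans ((dg_succ h3 _ 1).trans
      ((dg_succ h4 _ 0).trans (dg_zero h5 _)))))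
  · exact (dg_succ h0 _ 5).trans ((dg_succ h1 _ 4).trans ((dg_succ h2 _ 3).trans ((dg_succ h3 _ 2).trans
      ((dg_succ h4 _ 1).trans ((dg_succ h5 _ 0).trans (dg_zero h6 _))))))

theorem pow_three (j : ℕ) : 3 ^ j % 80 = 1 ∨ 3 ^ j % 80 = 3 ∨ 3 ^ j % 80 = 9 ∨ 3 ^ j % 80 = 27 := by
  induction j with
  | zero => exact Or.inl rfl
  | succ j ih =>
    rw [pow_succ]
    omega

/-- the rotations -/
theorem rot_nine {e : D1 → ℕ} {j : ℕ} (h : ∀ T : ℕ → ℕ, ∑ μ, T (3 ^ j * e μ % 80) = ∑ μ, T (e μ % 80)) :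
    3 ^ j % 80 = 1 ∨ ∀ T : ℕ → ℕ, ∑ μ, T (9 * (e μ % 80) % 80) = ∑ μ, T (e μ % 80) := by
  simp only [Nat.mul_mod (3 ^ j)] at h
  have key : ∀ w : ℕ, 3 ^ j % 80 = w → (∀ x, w * (w * x % 80) % 80 = 9 * x % 80) →
      ∀ T : ℕ → ℕ, ∑ μ, T (9 * (e μ % 80) % 80) = ∑ μ, T (e μ % 80) := by
    intro w h1 h2 T
    rw [h1] at h
    rw [← h T, ← h fun x => T (w * x % 80)]
    simp only [h2]
  rcases pow_three j with h1 | h1 | h1 | h1
  · exact Or.inl h1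
  · exact Or.inr (key 3 h1 fun x => by omega)
  · rw [h1] at h
    exact Or.inr h
  · exact Or.inr (key 27 h1 fun x => by omega)

end E81

namespace Sit

variable {p a b : ℕ} {F : Type u} {K : Type v} {k : Type u} [Field F] [Fintype F] [Field K] [Fintype K] [Field k]
  (S : Sit p a b F K k)

/-- **E81** -/
theorem e81 (hp : p = 3) (ha : a = 4) (hs : S.SSC) : Nonempty (S.TorW (rho k)) := by
  classical
  subst hp ha
  have := S.closed
  have := S.chark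
  have := S.charK
  have : Fact (Nat.Prime 3) := ⟨Nat.prime_three⟩
  obtain ⟨c0, g, t, hζ, ht, hg⟩ := S.e27_frame
  replace hζ : IsPrimitiveRoot (S.ι c0) 80 := hζ
  have hN : ((80 : ℕ) : k) ≠ 0 := fun h0 => absurd ((CharP.cast_eq_zero_iff k 3 80).1 h0) (by norm_num)
  have hc : ∀ i, S.ι c0 ^ i = 1 → c0 ^ i = 1 := fun i h0 =>
    Units.ext (S.ι.injective (by rw [Units.val_pow_eq_pow_val, map_pow, h0, Units.val_one, map_one]))
  let ζ : kˣ := Units.map (S.ι : K →* k) c0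
  have hζ' : IsPrimitiveRoot ζ (2 * 40) := IsPrimitiveRoot.coe_units_iff.1 hζ
  obtain ⟨w, s, h1, h2⟩ := E81.alc' (by norm_num) hζ' ht (by
    rw [← map_pow, ← h_pow, hc _ hζ.pow_eq_one, h_one, map_one]) (by
    rw [← map_pow, ← h_pow, S.ψ_mem_center]
    have h3 : ((c0 ^ 40 : Kˣ) : K) * ((c0 ^ 40 : Kˣ) : K) = 1 := by
      rw [← Units.val_mul, ← pow_add, hc _ hζ.pow_eq_one, Units.val_one]
    rcases mul_self_eq_one_iff.1 h3 with h4 | h4
    · exact Or.inl (by rw [show c0 ^ 40 = 1 from Units.ext h4, h_one])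
    · exact Or.inr (by rw [show c0 ^ 40 = -1 from Units.ext h4, h_neg_one]))
  simp only [Fin.sum_univ_seven, Lb.mk, Matrix.cons_val] at h1
  obtain ⟨c, hc1, hc2⟩ := E81.exists_code s (by omega)
  rw [show (fun i => (s i : ℤ)) = fun i : Fin 7 => (E81.dg c i : ℤ) from funext fun i => by rw [hc2]] at h2
  let e : D1 → ℕ := fun μ => E81.ee c (E81.rh (R2.T1.nn μ)).1
  have he : ∀ μ, ((ch (wc μ) (lam (Bl.co fun i : Fin 7 => (E81.dg c i : ℤ)) ζ) : kˣ) : k) = S.ι c0 ^ e μ := fun μ => by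
    have h3 : ζ ^ e μ = ζ ^ ∑ i, wc μ i * Bl.co (fun j => (E81.dg c j : ℤ)) i := by
      rw [← zpow_natCast, E81.ee_eq, _root_.zpow_add, _root_.zpow_mul, show ζ ^ (80 : ℤ) = 1 from
        (zpow_natCast ζ 80).trans hζ'.pow_eq_one, _root_.one_zpow, mul_one]
    rw [ch_lam, ← h3]
    rfl
  have hc0 : c ≠ 0 := by
    rintro rfl
    have h3 : (lam (Bl.co fun i : Fin 7 => (E81.dg 0 i : ℤ)) ζ) = 1 := by
      funext i
      have h4 : Bl.co (fun i : Fin 7 => (E81.dg 0 i : ℤ)) i = 0 := by simp [Bl.co, E81.dg]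
      show ζ ^ Bl.co (fun i : Fin 7 => (E81.dg 0 i : ℤ)) i = 1
      rw [h4, zpow_zero]
    rw [h3, map_one, mul_one, mul_inv_cancel] at h2
    have h4 := S.bl_sq (c := c0) (by rw [h2, map_one])
    have h5 : S.ι c0 ^ 2 = 1 := by rw [← map_pow, ← Units.val_pow_eq_pow_val, h4, Units.val_one, map_one]
    exact absurd (hζ.dvd_of_pow_eq_one 2 h5) (by norm_num)
  obtain ⟨d, hd, n, H, hd0⟩ : ∃ d, InSoc S.ι 3 S.R d ∧ ∃ n, IsMult S.ι 3 4 S.R n ∧ n d ≠ 0 := by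
    obtain ⟨d, hd, hd'⟩ := S.e27_exists_soc
    exact ⟨d, hd, _, isMult_cf S.ι 3 S.cardK S.R, Multiset.count_ne_zero.2 hd'⟩
  have hd1 : d < 81 := H.supp d hd0
  obtain ⟨Θ, κ, h3, h4, h5, h6⟩ := E81.arith (n := n) hc1 hc0 (by
    have e0 : E81.dg c 0 = s 0 := hc2 0
    have e1 : E81.dg c 1 = s 1 := hc2 1
    have e2 : E81.dg c 2 = s 2 := hc2 2
    have e3 : E81.dg c 3 = s 3 := hc2 3
    have e4 : E81.dg c 4 = s 4 := hc2 4
    have e5 : E81.dg c 5 = s 5 := hc2 5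
    have e6 : E81.dg c 6 = s 6 := hc2 6
    omega) (fun T => by
    rw [← E81.sum_rh fun x => T (E81.em c x.1)]
    refine (E81.sum_fib Finset.univ (f := fun μ => e μ % 80) (fun _ => Nat.mod_lt _ (by norm_num)) T).trans ?_
    rw [Finset.sum_congr rfl fun θ hθ => congrArg (· * T θ) (S.e27_count wrep_V (fun _ _ => rfl) H (isSS_h S.ι c0) hζ hN
      (by norm_num) h2 he (Finset.mem_range.1 hθ))]
    simp only [Finset.sum_mul]
    rw [Finset.sum_comm]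
    refine Finset.sum_congr rfl fun x hx => ?_
    rw [E81.ys_eq (k := k) T (Finset.mem_range.1 hx), E81.sum_fib _ (f := E27.wx 80 x) (N := 80) (fun _ => Nat.mod_lt _ (by norm_num)) T,
      Finset.mul_sum]
    exact Finset.sum_congr rfl fun θ _ => mul_assoc _ _ _) hd1 hd0
  refine S.e27_torw' (by norm_num) hs (by norm_num) hζ (by norm_num) h2 (hg w) he (Θ := Θ) (fun j hj θ hθ h7 => ?_) hd
    (fun m hm => h4 _ (E81.mem_wl hd1 hm)) (E81.nz_ne h3) fun μ ν h7 h8 => ?_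
  · rcases h5 with h5 | h5
    · exact h5 _
    rcases E81.rot_nine (e := e) (j := j) (fun T => by
      rw [E81.sum_fib Finset.univ (f := fun μ => e μ % 80) (fun _ => Nat.mod_lt _ (by norm_num)) T,
        E81.sum_fib Finset.univ (f := fun μ => 3 ^ j * e μ % 80) (fun _ => Nat.mod_lt _ (by norm_num)) T]
      exact Finset.sum_congr rfl fun x hx => congrArg (· * T x) (hj.count wrep_V (ρ := S.R) (fun _ _ => rfl) (isSS_h S.ι c0)
        hζ hN h2 he (Finset.mem_range.1 hx))) with h8 | h8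
    · rwa [Nat.mul_mod, h8, one_mul, Nat.mod_mod, Nat.mod_eq_of_lt hθ]
    · refine absurd ?_ h5
      rw [E81.cn, E81.cn, ← E81.sum_rh, ← E81.sum_rh]
      refine Eq.trans ?_ (h8 fun x => 512 ^ x).symm
      simp only [E81.em, one_mul, Nat.mod_mod, e]
  · rw [E81.ff_eq, E81.ff_eq, h6 _ (E81.rh_mem μ) _ (E81.rh_mem ν) h7 h8]

end Sit

end Cfsg.Agent.E7P
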